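import Mathlib

set_option autoImplicit false

open Topology TopologicalSpace Set

namespace Groth.Agent.ConstrNoeth

universe u v
variable {X : Type u} [TopologicalSpace X]

/-- If an irreducible set is in the closure of a finite union of locally closed sets, then the
union contains a nonempty relatively open piece of it. -/
lemma exists_open_of_subset_closure {ι : Type*} [Finite ι] {Z : Set X} (hZ : IsIrreducible Z)
    (L : ι → Set X) (hL : ∀ i, IsLocallyClosed (L i))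
    (h : Z ⊆ closure ((⋃ i, L i) ∩ Z)) :
    ∃ U : Set X, IsOpen U ∧ (U ∩ Z).Nonempty ∧ U ∩ Z ⊆ ⋃ i, L i := by
  rw [iUnion_inter, closure_iUnion_of_finite] at h
  have := Fintype.ofFinite ι
  obtain ⟨z, hz, hz'⟩ : ∃ t ∈ (Finset.univ.image fun i => closure (L i ∩ Z)), Z ⊆ t := by
    refine isIrreducible_iff_sUnion_isClosed.mp hZ _ ?_ ?_
    · simp
    · simpa using h
  obtain ⟨i, -, rfl⟩ := Finset.mem_image.mp hz
  obtain ⟨U, C, hU, hC, hUC⟩ := hL i
  have hZC : Z ⊆ C := hz'.trans (closure_minimal (fun x hx => (hUC ▸ hx.1 : x ∈ U ∩ C).2) hC)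
  refine ⟨U, hU, ?_, fun x hx => mem_iUnion.mpr ⟨i, hUC ▸ ⟨hx.1, hZC hx.2⟩⟩⟩
  obtain ⟨x, hx⟩ := hZ.nonempty
  obtain ⟨y, -, hy⟩ := mem_closure_iff.mp (hz' hx) univ isOpen_univ trivial
  exact ⟨y, (hUC ▸ hy.1 : y ∈ U ∩ C).1, hy.2⟩

lemma subset_closure_open_inter {Z U : Set X} (hZ : IsIrreducible Z) (hU : IsOpen U)
    (h : (U ∩ Z).Nonempty) : Z ⊆ closure (U ∩ Z) := by
  intro x hx
  rw [mem_closure_iff]
  intro V hV hxV
  obtain ⟨y, hy, hyV, hyU⟩ := hZ.isPreirreducible V U hV hU ⟨x, hx, hxV⟩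
    (h.mono fun a ha => ⟨ha.2, ha.1⟩)
  exact ⟨y, hyV, hyU, hy⟩

lemma dense_subtype_iff {Y E : Set X} :
    Dense (Subtype.val ⁻¹' E : Set Y) ↔ Y ⊆ closure (E ∩ Y) := by
  rw [Subtype.dense_iff, image_preimage_eq_inter_range, Subtype.range_coe]

/-- In an irreducible closed set a relatively nowhere dense set is one that is not dense. -/
lemma isNowhereDense_subtype_iff {Y E : Set X} (hY : IsIrreducible Y) :
    IsNowhereDense (Subtype.val ⁻¹' E : Set Y) ↔ ¬ Y ⊆ closure (E ∩ Y) := by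
  rw [← dense_subtype_iff]
  constructor
  · intro h hd
    have := hY.nonempty.to_subtype
    have h' : interior (closure (Subtype.val ⁻¹' E : Set Y)) = ∅ := h
    rw [hd.closure_eq, interior_univ] at h'
    exact univ_nonempty.ne_empty h'
  · intro hd
    unfold IsNowhereDense
    by_contra h
    apply hd
    have : PreirreducibleSpace Y := isPreirreducible_iff_preirreducibleSpace.mp hY.isPreirreducible
    have h1 := isOpen_interior.dense (nonempty_iff_ne_empty.mpr h)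
    exact dense_closure.mp (h1.mono interior_subset)

lemma generic_mem_iff {ι : Type*} [Finite ι] {Z : Set X} (hZ : IsIrreducible Z)
    (L : ι → Set X) (hL : ∀ i, IsLocallyClosed (L i)) {ξ : X} (hξ : ξ ∈ Z) (hξ' : Z ⊆ closure {ξ}) :
    Z ⊆ closure ((⋃ i, L i) ∩ Z) ↔ ξ ∈ ⋃ i, L i := by
  constructor
  · intro h
    obtain ⟨U, hU, ⟨y, hyU, hyZ⟩, hUE⟩ := exists_open_of_subset_closure hZ L hL h
    obtain ⟨z, hzU, rfl⟩ := mem_closure_iff.mp (hξ' hyZ) U hU hyU
    exact hUE ⟨hzU, hξ⟩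
  · intro h
    exact hξ'.trans (closure_mono (singleton_subset_iff.mpr ⟨h, hξ⟩))

variable [NoetherianSpace X]

lemma closed_induction {P : Set X → Prop}
    (step : ∀ Y, IsClosed Y → (∀ Z, IsClosed Z → Z ⊂ Y → P Z) → P Y) :
    ∀ Y, IsClosed Y → P Y := by
  suffices ∀ Y : Closeds X, P (Y : Set X) from fun Y hY => this ⟨Y, hY⟩
  intro Y
  induction Y using WellFoundedLT.induction with
  | ind Y ih =>
    exact step _ Y.isClosed fun Z hZ hlt => ih ⟨Z, hZ⟩ (SetLike.coe_ssubset_coe.mp hlt)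

/-- Noetherian induction reducing to irreducible closed sets. -/
lemma irreducible_induction {P : Set X → Prop} (h0 : P ∅)
    (hu : ∀ A B, IsClosed A → IsClosed B → P A → P B → P (A ∪ B))
    (step : ∀ Y, IsClosed Y → IsIrreducible Y → (∀ Z, IsClosed Z → Z ⊂ Y → P Z) → P Y) :
    ∀ Y, IsClosed Y → P Y := by
  refine closed_induction fun Y hY ih => ?_
  rcases Y.eq_empty_or_nonempty with rfl | hne
  · exact h0
  by_cases hirr : IsPreirreducible Y
  · exact step Y hY ⟨hne, hirr⟩ ih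
  rw [isPreirreducible_iff_isClosed_union_isClosed] at hirr
  push Not at hirr
  obtain ⟨A, B, hA, hB, hAB, hnA, hnB⟩ := hirr
  have : Y = (Y ∩ A) ∪ (Y ∩ B) := by rw [← inter_union_distrib_left, inter_eq_left.mpr hAB]
  rw [this]
  refine hu _ _ (hY.inter hA) (hY.inter hB) (ih _ (hY.inter hA) ?_) (ih _ (hY.inter hB) ?_)
  · exact inter_subset_left.ssubset_of_ne fun h => hnA (inter_eq_left.mp h)
  · exact inter_subset_left.ssubset_of_ne fun h => hnB (inter_eq_left.mp h)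

lemma isConstructible_of_isOpen {U : Set X} (hU : IsOpen U) : IsConstructible U :=
  IsRetrocompact.isConstructible hU fun _ _ _ => NoetherianSpace.isCompact _

lemma isConstructible_of_isClosed {C : Set X} (hC : IsClosed C) : IsConstructible C :=
  isConstructible_compl.mp (isConstructible_of_isOpen hC.isOpen_compl)

lemma isConstructible_of_isLocallyClosed {L : Set X} (hL : IsLocallyClosed L) :
    IsConstructible L := by
  obtain ⟨U, C, hU, hC, rfl⟩ := hL
  exact (isConstructible_of_isOpen hU).inter (isConstructible_of_isClosed hC)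

omit [NoetherianSpace X] in
lemma exists_iUnion_isLocallyClosed {E : Set X} (hE : IsConstructible E) :
    ∃ (n : ℕ) (L : Fin n → Set X), (∀ i, IsLocallyClosed (L i)) ∧ E = ⋃ i, L i := by
  induction E, hE using BooleanSubalgebra.closure_sdiff_sup_induction with
  | isSublattice =>
    exact ⟨fun s hs t ht => ⟨hs.1.union ht.1, hs.2.union ht.2⟩,
      fun s hs t ht => ⟨hs.1.inter ht.1, hs.2.inter_isOpen ht.2 ht.1⟩⟩
  | bot_mem => exact ⟨isOpen_empty, .empty⟩
  | top_mem => exact ⟨isOpen_univ, .univ⟩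
  | sdiff U hU V hV =>
    exact ⟨1, fun _ => U \ V, fun _ => ⟨U, Vᶜ, hU.1, hV.1.isClosed_compl, rfl⟩, (iUnion_const _).symm⟩
  | sup s _ t _ hs' ht' =>
    obtain ⟨n, L, hL, rfl⟩ := hs'
    obtain ⟨m, M, hM, rfl⟩ := ht'
    refine ⟨n + m, Fin.append L M, Fin.addCases (by simpa using hL) (by simpa using hM), ?_⟩
    ext x
    simp only [sup_eq_union, mem_union, mem_iUnion]
    constructor
    · rintro (⟨i, h⟩ | ⟨i, h⟩)
      · exact ⟨Fin.castAdd m i, by simpa using h⟩
      · exact ⟨Fin.natAdd n i, by simpa using h⟩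
    · rintro ⟨i, h⟩
      induction i using Fin.addCases with
      | left i => exact Or.inl ⟨i, by simpa using h⟩
      | right i => exact Or.inr ⟨i, by simpa using h⟩

omit [NoetherianSpace X] in
lemma exists_open_of_constructible {E Y : Set X} (hE : IsConstructible E) (hY : IsIrreducible Y)
    (h : Y ⊆ closure (E ∩ Y)) : ∃ U : Set X, IsOpen U ∧ (U ∩ Y).Nonempty ∧ U ∩ Y ⊆ E := by
  obtain ⟨n, L, hL, rfl⟩ := exists_iUnion_isLocallyClosed hE
  exact exists_open_of_subset_closure hY L hL h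

omit [NoetherianSpace X] in
lemma generic_mem {E Y : Set X} (hE : IsConstructible E) (hY : IsIrreducible Y)
    (h : Y ⊆ closure (E ∩ Y)) {ξ : X} (hξ : ξ ∈ Y) (hξ' : Y ⊆ closure {ξ}) : ξ ∈ E := by
  obtain ⟨n, L, hL, rfl⟩ := exists_iUnion_isLocallyClosed hE
  exact (generic_mem_iff hY L hL hξ hξ').mp h

lemma isConstructible_of_irreducible {E : Set X}
    (h : ∀ Y : Set X, IsClosed Y → IsIrreducible Y → Y ⊆ closure (E ∩ Y) →
      ∃ U : Set X, IsOpen U ∧ (U ∩ Y).Nonempty ∧ U ∩ Y ⊆ E) : IsConstructible E := by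
  suffices ∀ Y, IsClosed Y → IsConstructible (E ∩ Y) by
    simpa using this univ isClosed_univ
  refine irreducible_induction (by simp) (fun A B _ _ hA hB => ?_) fun Y hY hirr ih => ?_
  · rw [inter_union_distrib_left]; exact hA.union hB
  by_cases hd : Y ⊆ closure (E ∩ Y)
  · obtain ⟨U, hU, ⟨a, ha⟩, hUE⟩ := h Y hY hirr hd
    have hs : Y \ U ⊂ Y := sdiff_subset.ssubset_of_ne fun e => (e.ge ha.2).2 ha.1
    have := ((isConstructible_of_isOpen hU).inter (isConstructible_of_isClosed hY)).union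
      (ih _ (hY.sdiff hU) hs)
    convert this using 1
    ext x
    simp only [mem_inter_iff, mem_union, mem_sdiff]
    constructor
    · intro hx; by_cases x ∈ U <;> tauto
    · rintro (hx | hx)
      · exact ⟨hUE ⟨hx.1, hx.2⟩, hx.2⟩
      · exact ⟨hx.1, hx.2.1⟩
  · have hs : closure (E ∩ Y) ⊂ Y :=
      (closure_minimal inter_subset_right hY).ssubset_of_ne fun e => hd e.ge
    convert ih _ isClosed_closure hs using 1
    ext x
    exact ⟨fun hx => ⟨hx.1, subset_closure hx⟩, fun hx => ⟨hx.1, hs.subset hx.2⟩⟩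

lemma mem_nhds_of_dense {E : Set X} (hE : IsConstructible E) {x : X}
    (h : ∀ Y : Set X, IsClosed Y → IsIrreducible Y → x ∈ Y → Y ⊆ closure (E ∩ Y)) : E ∈ 𝓝 x := by
  suffices ∀ Y, IsClosed Y → ∃ U, IsOpen U ∧ x ∈ U ∧ U ∩ Y ⊆ E by
    obtain ⟨U, hU, hxU, hUE⟩ := this univ isClosed_univ
    exact Filter.mem_of_superset (hU.mem_nhds hxU) (by simpa using hUE)
  refine irreducible_induction ⟨univ, isOpen_univ, trivial, by simp⟩ ?_ ?_
  · rintro A B - - ⟨U, hU, hxU, hUA⟩ ⟨V, hV, hxV, hVB⟩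
    exact ⟨U ∩ V, hU.inter hV, ⟨hxU, hxV⟩, fun y hy => hy.2.elim (fun a => hUA ⟨hy.1.1, a⟩) fun b => hVB ⟨hy.1.2, b⟩⟩
  · intro Y hY hirr ih
    by_cases hx : x ∈ Y
    · obtain ⟨V, hV, ⟨a, ha⟩, hVE⟩ := exists_open_of_constructible hE hirr (h Y hY hirr hx)
      obtain ⟨U, hU, hxU, hUE⟩ := ih _ (hY.sdiff hV) (sdiff_subset.ssubset_of_ne fun e => (e.ge ha.2).2 ha.1)
      refine ⟨U, hU, hxU, fun y hy => ?_⟩
      by_cases hyV : y ∈ V
      · exact hVE ⟨hyV, hy.2⟩
      · exact hUE ⟨hy.1, hy.2, hyV⟩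
    · exact ⟨Yᶜ, hY.isOpen_compl, hx, fun y hy => absurd hy.2 hy.1⟩

lemma isClosed_of_stableUnderSpecialization [QuasiSober X] {E : Set X} (hE : IsConstructible E)
    (hs : StableUnderSpecialization E) : IsClosed E := by
  refine closure_eq_iff_isClosed.mp (subset_closure.antisymm' fun x hx => ?_)
  suffices ∀ Y, IsClosed Y → x ∈ closure (E ∩ Y) → x ∈ E from this univ isClosed_univ (by simpa)
  refine irreducible_induction (by simp) (fun A B _ _ hA hB h => ?_) fun Y hY hirr ih h => ?_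
  · rw [inter_union_distrib_left, closure_union] at h
    exact h.elim hA hB
  by_cases hd : Y ⊆ closure (E ∩ Y)
  · have hη := hirr.isGenericPoint_genericPoint hY
    have hmem := generic_mem hE hirr hd hη.mem hη.def.ge
    exact hs (hη.specializes (closure_minimal inter_subset_right hY h)) hmem
  · refine ih _ isClosed_closure
      ((closure_minimal inter_subset_right hY).ssubset_of_ne fun e => hd e.ge) ?_
    exact closure_mono (show E ∩ Y ⊆ E ∩ closure (E ∩ Y) from fun y hy => ⟨hy.1, subset_closure hy⟩) h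

lemma range_finite {T : Type v} (h : X → T)
    (hc : ∀ Y : Set X, IsClosed Y → IsIrreducible Y →
      ∃ U : Set X, IsOpen U ∧ (U ∩ Y).Nonempty ∧ ∀ a ∈ U ∩ Y, ∀ b ∈ U ∩ Y, h a = h b) :
    (Set.range h).Finite := by
  suffices ∀ Y, IsClosed Y → (h '' Y).Finite by simpa using this univ isClosed_univ
  refine irreducible_induction (by simp) (fun A B _ _ hA hB => ?_) fun Y hY hirr ih => ?_
  · rw [image_union]; exact hA.union hB
  obtain ⟨U, hU, ⟨a, ha⟩, hconst⟩ := hc Y hY hirr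
  have := (ih _ (hY.sdiff hU) (sdiff_subset.ssubset_of_ne fun e => (e.ge ha.2).2 ha.1)).insert (h a)
  refine this.subset ?_
  rintro _ ⟨y, hy, rfl⟩
  by_cases hyU : y ∈ U
  · exact Or.inl (hconst y ⟨hyU, hy⟩ a ha)
  · exact Or.inr ⟨y, ⟨hy, hyU⟩, rfl⟩

lemma isConstructible_fiber {T : Type v} (h : X → T)
    (hc : ∀ Y : Set X, IsClosed Y → IsIrreducible Y →
      ∃ U : Set X, IsOpen U ∧ (U ∩ Y).Nonempty ∧ ∀ a ∈ U ∩ Y, ∀ b ∈ U ∩ Y, h a = h b) (t : T) :
    IsConstructible (h ⁻¹' {t}) := by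
  refine isConstructible_of_irreducible fun Y hY hirr hd => ?_
  obtain ⟨U, hU, ⟨a, ha⟩, hconst⟩ := hc Y hY hirr
  obtain ⟨b, hbU, hbt, hbY⟩ := mem_closure_iff.mp (hd ha.2) U hU ha.1
  exact ⟨U, hU, ⟨a, ha⟩, fun y hy => (hconst y hy b ⟨hbU, hbY⟩).trans hbt⟩

omit [NoetherianSpace X] in
lemma exists_open_const {T : Type v} (h : X → T) (hfib : ∀ t, IsConstructible (h ⁻¹' {t}))
    (hfin : (Set.range h).Finite) {Y : Set X} (hY : IsIrreducible Y) :
    ∃ U : Set X, IsOpen U ∧ (U ∩ Y).Nonempty ∧ ∀ a ∈ U ∩ Y, ∀ b ∈ U ∩ Y, h a = h b := by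
  have hcov : Y ⊆ ⋃₀ ↑(hfin.toFinset.image fun t => closure (h ⁻¹' {t} ∩ Y)) := fun y hy => by
    simp only [Finset.coe_image, sUnion_image, Finite.coe_toFinset, mem_iUnion]
    exact ⟨h y, mem_range_self y, subset_closure ⟨rfl, hy⟩⟩
  classical
  obtain ⟨z, hz, hz'⟩ := isIrreducible_iff_sUnion_isClosed.mp hY _ (by simp) hcov
  obtain ⟨t, -, rfl⟩ := Finset.mem_image.mp hz
  obtain ⟨U, hU, hne, hUE⟩ := exists_open_of_constructible (hfib t) hY hz'
  exact ⟨U, hU, hne, fun a ha b hb => (show h a = t from hUE ha).trans (show h b = t from hUE hb).symm⟩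

omit [NoetherianSpace X] in
lemma exists_open_const_of_quasiSober [QuasiSober X] {T : Type v} (h : X → T)
    (hfib : ∀ t, IsConstructible (h ⁻¹' {t})) {Y : Set X} (hc : IsClosed Y) (hY : IsIrreducible Y) :
    ∃ U : Set X, IsOpen U ∧ (U ∩ Y).Nonempty ∧ ∀ a ∈ U ∩ Y, ∀ b ∈ U ∩ Y, h a = h b := by
  have hη := hY.isGenericPoint_genericPoint hc
  obtain ⟨U, hU, hne, hUE⟩ := exists_open_of_constructible (hfib (h hY.genericPoint)) hY
    (hη.def.ge.trans (closure_mono (singleton_subset_iff.mpr ⟨rfl, hη.mem⟩)))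
  exact ⟨U, hU, hne, fun a ha b hb => (show h a = _ from hUE ha).trans (show h b = _ from hUE hb).symm⟩

lemma exists_eq_univ_of_directed [QuasiSober X] {ι : Type v} [Preorder ι] [IsDirected ι (· ≤ ·)]
    [Nonempty ι] (E : ι → Set X) (hmono : Monotone E) (hE : ∀ a, IsConstructible (E a))
    (hcov : ⋃ a, E a = univ) : ∃ a, E a = univ := by
  suffices ∀ Y, IsClosed Y → ∃ a, Y ⊆ E a from
    (this univ isClosed_univ).imp fun a ha => univ_subset_iff.mp ha
  refine irreducible_induction ⟨Classical.arbitrary ι, empty_subset _⟩ ?_ ?_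
  · rintro A B - - ⟨a, ha⟩ ⟨b, hb⟩
    obtain ⟨c, hac, hbc⟩ := exists_ge_ge a b
    exact ⟨c, union_subset (ha.trans (hmono hac)) (hb.trans (hmono hbc))⟩
  · intro Y hY hirr ih
    have hη := hirr.isGenericPoint_genericPoint hY
    obtain ⟨a, ha⟩ := mem_iUnion.mp (hcov.ge (mem_univ hirr.genericPoint))
    obtain ⟨U, hU, ⟨y, hy⟩, hUE⟩ := exists_open_of_constructible (hE a) hirr
      (hη.def.ge.trans (closure_mono (singleton_subset_iff.mpr ⟨ha, hη.mem⟩)))
    obtain ⟨b, hb⟩ := ih _ (hY.sdiff hU) (sdiff_subset.ssubset_of_ne fun e => (e.ge hy.2).2 hy.1)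
    obtain ⟨c, hac, hbc⟩ := exists_ge_ge a b
    refine ⟨c, fun x hx => ?_⟩
    by_cases hxU : x ∈ U
    · exact hmono hac (hUE ⟨hxU, hx⟩)
    · exact hmono hbc (hb ⟨hx, hxU⟩)

end Groth.Agent.ConstrNoeth
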