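import Mathlib

set_option autoImplicit false

open Topology TopologicalSpace Set
open scoped Set.Notation

namespace Groth.Agent.ConstrPrespectral

universe u
variable {X : Type u} [TopologicalSpace X]

lemma isRetrocompact_of_isConstructible {s : Set X} (hs : IsConstructible s) : IsRetrocompact s := by
  induction s, hs using BooleanSubalgebra.closure_sdiff_sup_induction with
  | isSublattice =>
    exact ⟨fun s hs t ht => ⟨hs.1.union ht.1, hs.2.union ht.2⟩,
      fun s hs t ht => ⟨hs.1.inter ht.1, hs.2.inter_isOpen ht.2 ht.1⟩⟩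
  | bot_mem => exact ⟨isOpen_empty, .empty⟩
  | top_mem => exact ⟨isOpen_univ, .univ⟩
  | sdiff U hU V hV =>
    intro K hK hKo
    rw [show (U \ V) ∩ K = (U ∩ K) ∩ Vᶜ by ext; simp; tauto]
    exact (hU.2 hK hKo).inter_right hV.1.isClosed_compl
  | sup s _ t _ hs' ht' => exact hs'.union ht'

variable [PrespectralSpace X]

/-- A quasi-compact relatively open subset extends to a quasi-compact open subset. -/
lemma exists_isCompact_isOpen {T : Set X} {K : Set T} (hK : IsCompact K) (hKo : IsOpen K) :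
    ∃ W : Set X, IsCompact W ∧ IsOpen W ∧ Subtype.val ⁻¹' W = K := by
  obtain ⟨O, hO, rfl⟩ := isOpen_induced_iff.mp hKo
  obtain ⟨W, hW, hWo, hKW, hWO⟩ := PrespectralSpace.exists_isCompact_and_isOpen_between
    (hK.image continuous_subtype_val) hO (by simp)
  exact ⟨W, hW, hWo, subset_antisymm (fun x hx => hWO hx) fun x hx => hKW ⟨x, hx, rfl⟩⟩

lemma isRetrocompact_preimage {T : Set X} (hT : IsRetrocompact T) {U : Set X} (hU : IsOpen U)
    (hUr : IsRetrocompact U) : IsRetrocompact (Subtype.val ⁻¹' U : Set T) := by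
  intro K hK hKo
  obtain ⟨W, hW, hWo, rfl⟩ := exists_isCompact_isOpen hK hKo
  rw [Subtype.isCompact_iff, ← preimage_inter, image_preimage_eq_inter_range, Subtype.range_coe, inter_comm]
  exact hT (hUr hW hWo) (hU.inter hWo)

lemma preimage_constructible {T : Set X} (hT : IsRetrocompact T) {E : Set X} (hE : IsConstructible E) :
    IsConstructible (Subtype.val ⁻¹' E : Set T) :=
  hE.preimage continuous_subtype_val fun _ ho hr => isRetrocompact_preimage hT ho hr

lemma inclusion_constructible {P E : Set X} (h : P ⊆ E) (hP : IsRetrocompact P) (hc : IsRetrocompact E) {F : Set E}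
    (hF : IsConstructible F) : IsConstructible (Set.inclusion h ⁻¹' F) := by
  refine hF.preimage (continuous_inclusion h) fun S hS hSr K hK hKo => ?_
  obtain ⟨W, hW, hWo, rfl⟩ := exists_isCompact_isOpen hK hKo
  have hEW : IsCompact (Subtype.val ⁻¹' W : Set E) := by
    rw [Subtype.isCompact_iff, image_preimage_eq_inter_range, Subtype.range_coe, inter_comm]
    exact hc hW hWo
  obtain ⟨W', hW', hWo', he⟩ := exists_isCompact_isOpen
    (hSr hEW (hWo.preimage continuous_subtype_val)) (hS.inter (hWo.preimage continuous_subtype_val))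
  have : Set.inclusion h ⁻¹' S ∩ Subtype.val ⁻¹' W = Subtype.val ⁻¹' W' := by
    ext x
    exact (Set.ext_iff.mp he (Set.inclusion h x)).symm
  rw [this, Subtype.isCompact_iff, image_preimage_eq_inter_range, Subtype.range_coe, inter_comm]
  exact hP hW' hWo'

lemma image_val_constructible {E : Set X} (hE : IsConstructible E) {F : Set E}
    (hF : IsConstructible F) : IsConstructible (Subtype.val '' F) := by
  have hEr := isRetrocompact_of_isConstructible hE
  suffices ∀ s : Set X, IsConstructible s → ∀ hs : s ⊆ E,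
      IsConstructible (Subtype.val '' (Set.inclusion hs ⁻¹' F)) by
    simpa using this E hE subset_rfl
  intro s hs
  induction s, hs using BooleanSubalgebra.closure_sdiff_sup_induction with
  | isSublattice =>
    exact ⟨fun s hs t ht => ⟨hs.1.union ht.1, hs.2.union ht.2⟩,
      fun s hs t ht => ⟨hs.1.inter ht.1, hs.2.inter_isOpen ht.2 ht.1⟩⟩
  | bot_mem => exact ⟨isOpen_empty, .empty⟩
  | top_mem => exact ⟨isOpen_univ, .univ⟩
  | sdiff U hU V hV =>
    intro hsE
    have hPr : IsRetrocompact (U \ V) := isRetrocompact_of_isConstructible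
      ((hU.2.isConstructible hU.1).sdiff (hV.2.isConstructible hV.1))
    have hG := inclusion_constructible hsE hPr hEr hF
    let j : ↥(U \ V) → U := Set.inclusion sdiff_subset
    have hrange : Set.range j = (Subtype.val ⁻¹' V : Set U)ᶜ := by
      ext x
      simp only [j, Set.range_inclusion, mem_ofPred_eq, mem_compl_iff, mem_preimage]
      exact ⟨fun h => h.2, fun h => ⟨x.2, h⟩⟩
    have hj : IsClosedEmbedding j := ⟨IsEmbedding.inclusion _, by
      rw [hrange]; exact (hV.1.preimage continuous_subtype_val).isClosed_compl⟩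
    have h1 := hG.image_of_isClosedEmbedding hj (by
      rw [hrange, compl_compl]; exact isRetrocompact_preimage hU.2 hV.1 hV.2)
    have h2 := h1.image_of_isOpenEmbedding hU.1.isOpenEmbedding_subtypeVal (by rw [Subtype.range_coe]; exact hU.2)
    rw [Set.image_image] at h2
    exact h2
  | sup s _ t _ hs' ht' =>
    intro hst
    have h1 := hs' (subset_union_left.trans hst)
    have h2 := ht' (subset_union_right.trans hst)
    convert h1.union h2 using 1
    ext x
    simp only [mem_image, mem_preimage, mem_union, Subtype.exists, exists_and_right, exists_eq_right]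
    constructor
    · rintro ⟨hx | hx, h⟩
      · exact Or.inl ⟨hx, h⟩
      · exact Or.inr ⟨hx, h⟩
    · rintro (⟨hx, h⟩ | ⟨hx, h⟩)
      · exact ⟨Or.inl hx, h⟩
      · exact ⟨Or.inr hx, h⟩

lemma connectedComponent_eq_sInter [CompactSpace X] [QuasiSeparatedSpace X] (x : X) :
    connectedComponent x = ⋂₀ {Z : Set X | IsClopen Z ∧ x ∈ Z} := by
  set S := ⋂₀ {Z : Set X | IsClopen Z ∧ x ∈ Z} with hS
  refine subset_antisymm (subset_sInter fun Z hZ => hZ.1.connectedComponent_subset hZ.2) ?_
  have hSc : IsClosed S := isClosed_sInter fun Z hZ => hZ.1.1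
  have hxS : x ∈ S := mem_sInter.mpr fun Z hZ => hZ.2
  refine IsPreconnected.subset_connectedComponent ?_ hxS
  rw [isPreconnected_iff_subset_of_fully_disjoint_closed hSc]
  intro A B hA hB hAB hd
  obtain ⟨W₁, hW₁c, hW₁, hAW, hW₁B⟩ := PrespectralSpace.exists_isCompact_and_isOpen_between
    hA.isCompact hB.isOpen_compl hd.subset_compl_right
  obtain ⟨W₂, hW₂c, hW₂, hBW, hW₂A⟩ := PrespectralSpace.exists_isCompact_and_isOpen_between
    hB.isCompact hA.isOpen_compl hd.subset_compl_left
  have hW₁₂ : IsCompact (W₁ ∩ W₂) := QuasiSeparatedSpace.inter_isCompact _ _ hW₁ hW₁c hW₂ hW₂c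
  have hne : Nonempty {Z : Set X // IsClopen Z ∧ x ∈ Z} := ⟨⟨univ, isClopen_univ, trivial⟩⟩
  have hSi : ⋂ Z : {Z : Set X // IsClopen Z ∧ x ∈ Z}, Z.1 = S := by
    rw [hS, sInter_eq_iInter]; rfl
  obtain ⟨t, ht⟩ := (hW₁₂.union (hW₁.union hW₂).isClosed_compl.isCompact).elim_finite_subfamily_closed
    (fun Z : {Z : Set X // IsClopen Z ∧ x ∈ Z} => Z.1) (fun Z => Z.2.1.1) (by
      rw [hSi, eq_empty_iff_forall_notMem]
      rintro y ⟨h | h, hy⟩
      · exact (hAB hy).elim (fun ha => hW₂A h.2 ha) (fun hb => hW₁B h.1 hb)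
      · exact h ((hAB hy).imp (fun ha => hAW ha) fun hb => hBW hb))
  set Z := ⋂ i ∈ t, i.1 with hZdef
  have hZ : IsClopen Z := isClopen_biInter_finset fun i _ => i.2.1
  have hxZ : x ∈ Z := mem_iInter₂.mpr fun i _ => i.2.2
  have hdis : ∀ y ∈ Z, (y ∈ W₁ ∨ y ∈ W₂) ∧ ¬ (y ∈ W₁ ∧ y ∈ W₂) := fun y hy =>
    ⟨by by_contra h; exact eq_empty_iff_forall_notMem.mp ht y ⟨Or.inr h, hy⟩,
      fun h => eq_empty_iff_forall_notMem.mp ht y ⟨Or.inl h, hy⟩⟩
  have h1 : IsClopen (Z ∩ W₁) := ⟨by
    have : Z ∩ W₁ = Z ∩ W₂ᶜ := by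
      ext y
      exact ⟨fun h => ⟨h.1, fun h2 => (hdis y h.1).2 ⟨h.2, h2⟩⟩,
        fun h => ⟨h.1, (hdis y h.1).1.resolve_right h.2⟩⟩
    rw [this]; exact hZ.1.inter hW₂.isClosed_compl, hZ.2.inter hW₁⟩
  by_cases hx1 : x ∈ W₁
  · left
    intro y hy
    have := mem_sInter.mp hy _ ⟨h1, hxZ, hx1⟩
    exact (hAB hy).resolve_right fun hb => hW₁B this.2 hb
  · right
    intro y hy
    have := mem_sInter.mp hy _ ⟨IsClopen.inter hZ (IsClopen.compl h1), hxZ, fun h => hx1 h.2⟩
    exact (hAB hy).resolve_left fun ha => this.2 ⟨this.1, hAW ha⟩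

end Groth.Agent.ConstrPrespectral
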